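import Cfsg.Prelude.Def_Amalgam

/-!
Elementary properties of the coset graph of a pair of subgroups.
-/

set_option autoImplicit false

namespace Cfsg.Agent.Amalgam

variable {X : Type*} [Group X] {M₁ M₂ : Subgroup X}

theorem adj_inl_inr_iff {a : X ⧸ M₁} {b : X ⧸ M₂} :
    (Cfsg.cosetGraph M₁ M₂).Adj (Sum.inl a) (Sum.inr b) ↔
      ∃ x : X, (x : X ⧸ M₁) = a ∧ (x : X ⧸ M₂) = b := by
  simp only [Cfsg.cosetGraph, SimpleGraph.fromRel_adj]
  constructor
  · rintro ⟨-, ⟨x, ha, hb⟩ | ⟨x, ha, hb⟩⟩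
    · exact ⟨x, (Sum.inl.inj ha).symm, (Sum.inr.inj hb).symm⟩
    · cases ha
  · rintro ⟨x, rfl, rfl⟩
    exact ⟨by simp, Or.inl ⟨x, rfl, rfl⟩⟩

theorem adj_mk (x : X) :
    (Cfsg.cosetGraph M₁ M₂).Adj (Sum.inl (x : X ⧸ M₁)) (Sum.inr (x : X ⧸ M₂)) :=
  adj_inl_inr_iff.2 ⟨x, rfl, rfl⟩

theorem not_adj_inl_inl {a b : X ⧸ M₁} :
    ¬ (Cfsg.cosetGraph M₁ M₂).Adj (Sum.inl a) (Sum.inl b) := by
  rintro ⟨-, ⟨x, -, hb⟩ | ⟨x, -, hb⟩⟩ <;> cases hb

theorem not_adj_inr_inr {a b : X ⧸ M₂} :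
    ¬ (Cfsg.cosetGraph M₁ M₂).Adj (Sum.inr a) (Sum.inr b) := by
  rintro ⟨-, ⟨x, ha, -⟩ | ⟨x, ha, -⟩⟩ <;> cases ha

theorem adj_smul (g : X) {a b : Cfsg.CosetVertex M₁ M₂}
    (h : (Cfsg.cosetGraph M₁ M₂).Adj a b) :
    (Cfsg.cosetGraph M₁ M₂).Adj (g • a) (g • b) := by
  obtain ⟨hne, h⟩ := h
  refine ⟨fun he => hne ((smul_left_cancel_iff g).1 he), ?_⟩
  rcases h with ⟨x, rfl, rfl⟩ | ⟨x, rfl, rfl⟩
  · exact Or.inl ⟨g * x, rfl, rfl⟩
  · exact Or.inr ⟨g * x, rfl, rfl⟩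

theorem connected_of_sup_eq_top (hgen : M₁ ⊔ M₂ = ⊤) : (Cfsg.cosetGraph M₁ M₂).Connected := by
  have key : ∀ x : X, (Cfsg.cosetGraph M₁ M₂).Reachable
      (Sum.inl ((1 : X) : X ⧸ M₁)) (Sum.inl (x : X ⧸ M₁)) := by
    intro x
    have hx : x ∈ Subgroup.closure ((M₁ : Set X) ∪ M₂) := by
      rw [← Subgroup.sup_eq_closure, hgen]
      exact Subgroup.mem_top x
    have step : ∀ (y m : X), m ∈ (M₁ : Set X) ∪ M₂ →
        (Cfsg.cosetGraph M₁ M₂).Reachable (Sum.inl ((y : X) : X ⧸ M₁))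
          (Sum.inl ((y * m : X) : X ⧸ M₁)) := by
      intro y m hm
      rcases hm with hm | hm
      · rw [show ((y * m : X) : X ⧸ M₁) = y from
          QuotientGroup.mk_mul_of_mem y hm]
      · refine (adj_mk y).reachable.trans ?_
        rw [show ((y : X) : X ⧸ M₂) = ((y * m : X) : X ⧸ M₂) from
          (QuotientGroup.mk_mul_of_mem y hm).symm]
        exact (adj_mk (y * m)).symm.reachable
    refine Subgroup.closure_induction_right (p := fun (y : X) _ => (Cfsg.cosetGraph M₁ M₂).Reachable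
      (Sum.inl ((1 : X) : X ⧸ M₁)) (Sum.inl (y : X ⧸ M₁))) ?_ ?_ ?_ hx
    · exact SimpleGraph.Reachable.refl _
    · intro y _ m hm ih
      exact ih.trans (step y m hm)
    · intro y _ m hm ih
      refine ih.trans ?_
      have := step (y * m⁻¹) m hm
      rw [inv_mul_cancel_right] at this
      exact this.symm
  have all : ∀ v : Cfsg.CosetVertex M₁ M₂, (Cfsg.cosetGraph M₁ M₂).Reachable
      (Sum.inl ((1 : X) : X ⧸ M₁)) v := by
    rintro (a | b)
    · induction a using QuotientGroup.induction_on with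
      | _ x => exact key x
    · induction b using QuotientGroup.induction_on with
      | _ x => exact (key x).trans (adj_mk x).reachable
  exact { preconnected := fun u v => (all u).symm.trans (all v),
          nonempty := ⟨Sum.inl ((1 : X) : X ⧸ M₁)⟩ }

theorem stabilizer_mk (M : Subgroup X) (x : X) :
    MulAction.stabilizer X (x : X ⧸ M) = M.map (MulAut.conj x).toMonoidHom := by
  ext g
  rw [MulAction.mem_stabilizer_iff, Subgroup.mem_map_equiv, MulAut.conj_symm_apply]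
  change ((g * x : X) : X ⧸ M) = x ↔ _
  rw [eq_comm, QuotientGroup.eq, mul_assoc]

theorem stabilizer_inl (x : X) :
    MulAction.stabilizer X (Sum.inl (x : X ⧸ M₁) : Cfsg.CosetVertex M₁ M₂) =
      M₁.map (MulAut.conj x).toMonoidHom := by
  rw [← stabilizer_mk M₁ x]
  ext g
  simp only [MulAction.mem_stabilizer_iff, Sum.smul_inl, Sum.inl.injEq]

theorem stabilizer_inr (x : X) :
    MulAction.stabilizer X (Sum.inr (x : X ⧸ M₂) : Cfsg.CosetVertex M₁ M₂) =
      M₂.map (MulAut.conj x).toMonoidHom := by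
  rw [← stabilizer_mk M₂ x]
  ext g
  simp only [MulAction.mem_stabilizer_iff, Sum.smul_inr, Sum.inr.injEq]

theorem map_conj_inf (A B : Subgroup X) (x : X) :
    (A ⊓ B).map (MulAut.conj x).toMonoidHom =
      A.map (MulAut.conj x).toMonoidHom ⊓ B.map (MulAut.conj x).toMonoidHom :=
  Subgroup.map_inf _ _ _ (MulAut.conj x).injective

theorem edgeStabilizer_mk (x : X) :
    Cfsg.edgeStabilizer (Sum.inl (x : X ⧸ M₁) : Cfsg.CosetVertex M₁ M₂) (Sum.inr (x : X ⧸ M₂)) =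
      (M₁ ⊓ M₂).map (MulAut.conj x).toMonoidHom := by
  rw [Cfsg.edgeStabilizer, stabilizer_inl, stabilizer_inr, map_conj_inf]

/-- Every edge is `{xM₁, xM₂}` for some `x`, in one of the two orders. -/
theorem exists_rep_of_adj {a b : Cfsg.CosetVertex M₁ M₂}
    (h : (Cfsg.cosetGraph M₁ M₂).Adj a b) :
    ∃ x : X, (a = Sum.inl (x : X ⧸ M₁) ∧ b = Sum.inr (x : X ⧸ M₂)) ∨
      (a = Sum.inr (x : X ⧸ M₂) ∧ b = Sum.inl (x : X ⧸ M₁)) := by
  obtain ⟨-, ⟨x, ha, hb⟩ | ⟨x, hb, ha⟩⟩ := h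
  exacts [⟨x, Or.inl ⟨ha, hb⟩⟩, ⟨x, Or.inr ⟨ha, hb⟩⟩]

/-- A vertex stabilizer is transitive on the neighbours of the vertex. -/
theorem exists_stabilizer_smul_eq {δ μ μ' : Cfsg.CosetVertex M₁ M₂}
    (hμ : (Cfsg.cosetGraph M₁ M₂).Adj δ μ) (hμ' : (Cfsg.cosetGraph M₁ M₂).Adj δ μ') :
    ∃ g ∈ MulAction.stabilizer X δ, g • μ = μ' := by
  obtain ⟨x, ⟨rfl, rfl⟩ | ⟨rfl, rfl⟩⟩ := exists_rep_of_adj hμ <;>
    obtain ⟨y, ⟨h1, rfl⟩ | ⟨h1, rfl⟩⟩ := exists_rep_of_adj hμ'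
  all_goals first
    | (cases h1; done)
    | (refine ⟨y * x⁻¹, ?_, ?_⟩
       · rw [MulAction.mem_stabilizer_iff]
         simp only [Sum.smul_inl, Sum.smul_inr, MulAction.Quotient.smul_mk, smul_eq_mul,
           inv_mul_cancel_right]
         exact h1.symm
       · simp only [Sum.smul_inl, Sum.smul_inr, MulAction.Quotient.smul_mk, smul_eq_mul,
           inv_mul_cancel_right])

/-- The normal core: an element fixing every vertex of the coset graph lies in a normal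
subgroup of `X` inside `M₁ ⊓ M₂`, so is trivial when there is no such subgroup. -/
theorem eq_one_of_forall_smul_eq (h : ∀ N : Subgroup X, N ≤ M₁ ⊓ M₂ → N.Normal → N = ⊥)
    {g : X} (hg : ∀ v : Cfsg.CosetVertex M₁ M₂, g • v = v) : g = 1 := by
  have hker := h (MulAction.toPermHom X (Cfsg.CosetVertex M₁ M₂)).ker ?_ inferInstance
  · have : g ∈ (MulAction.toPermHom X (Cfsg.CosetVertex M₁ M₂)).ker := by
      rw [MonoidHom.mem_ker]
      ext v
      exact hg v
    rw [hker] at this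
    exact Subgroup.mem_bot.1 this
  · intro n hn
    rw [MonoidHom.mem_ker] at hn
    have hn' : ∀ v : Cfsg.CosetVertex M₁ M₂, n • v = v := fun v => by
      have := congrArg (fun σ : Equiv.Perm _ => σ v) hn
      simpa using this
    refine ⟨?_, ?_⟩
    · have := hn' (Sum.inl ((1 : X) : X ⧸ M₁))
      rw [← MulAction.mem_stabilizer_iff, stabilizer_inl] at this
      simpa using this
    · have := hn' (Sum.inr ((1 : X) : X ⧸ M₂))
      rw [← MulAction.mem_stabilizer_iff, stabilizer_inr] at this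
      simpa using this

end Cfsg.Agent.Amalgam
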